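import Groth.Agent.NoethApproxLib.ProperBase
import Groth.Agent.RichLib.LimitDescentFlat
import Groth.Agent.S1335
import Groth.Agent.SweepSix.GeomConn
import Groth.Prelude.Def_EGA43

/-!
# Noetherian models of proper flat morphisms of finite presentation
-/

set_option autoImplicit false

universe u

open CategoryTheory CategoryTheory.Limits AlgebraicGeometry Opposite RichLib.LimBC

namespace ProperFlatModelLib

noncomputable section

theorem isLocallyNoetherian_of_lft {T : Scheme.{u}}
    (h : LocallyOfFiniteType (specULiftZIsTerminal.from T)) : IsLocallyNoetherian T :=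
  haveI := h
  haveI : IsNoetherianRing (ULift.{u} ℤ) := isNoetherianRing_of_ringEquiv ℤ ULift.ringEquiv.symm
  LocallyOfFiniteType.isLocallyNoetherian (specULiftZIsTerminal.from T)

/-- A proper flat morphism of finite presentation over a qcqs base is the base change of a proper flat
morphism of finite presentation over a locally Noetherian base. -/
theorem exists_model {X S : Scheme.{u}} (f : X ⟶ S) [IsProper f] [Flat f]
    [LocallyOfFinitePresentation f] [CompactSpace S] [QuasiSeparatedSpace S] :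
    ∃ (X₀ S₀ : Scheme.{u}) (f₀ : X₀ ⟶ S₀) (g' : X ⟶ X₀) (g : S ⟶ S₀),
      IsPullback g' f f₀ g ∧ IsLocallyNoetherian S₀ ∧ IsProper f₀ ∧ Flat f₀ ∧
      LocallyOfFinitePresentation f₀ := by
  obtain ⟨B⟩ := NoethApproxLib.exists_approx S
  haveI : ∀ (j k : B.Jᵒᵖ) (a : j ⟶ k), IsAffineHom (B.D.map a) := fun _ _ a ↦ B.affine a
  obtain ⟨⟨j⟩, ⟨M⟩⟩ := DescFP.exists_model B.isLimit f
  haveI := M.lfp
  haveI := M.qc
  haveI := M.qs
  haveI := NoethApproxLib.isDirected_tail B j
  haveI : Nonempty {c : B.J // j ≤ c} := ⟨⟨j, le_rfl⟩⟩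
  haveI : CompactSpace (B.obj j) := B.compact _
  haveI : IsLocallyNoetherian (B.obj j) := isLocallyNoetherian_of_lft (B.lft _)
  let A := NoethApproxLib.tailSys B j
  have hlim : ∀ (P : MorphismProperty Scheme.{u}) [P.RespectsIso], P f → AtLim A M.p P := by
    intro P _ hP
    show P (pullback.snd M.p (B.proj j))
    rw [← M.sq.isoPullback_inv_snd]
    exact (P.cancel_left_of_respectsIso _ _).mpr hP
  obtain ⟨i₁, hi₁⟩ := ConsLib.exists_at_isProper A M.p (hlim @IsProper inferInstance)
  obtain ⟨i₂, hi₂⟩ := RichLib.LimBC.exists_at_flat A M.p (hlim @Flat inferInstance)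
  let i := IsCofiltered.min i₁ i₂
  refine ⟨pullback M.p (A.t i), A.D.obj i, pullback.snd M.p (A.t i),
    M.sq.isoPullback.hom ≫ pbπ A M.p i, A.c.π.app i, ?_, ?_, ?_, ?_, inferInstance⟩
  · have h1 : IsPullback M.sq.isoPullback.hom f (pullback.snd M.p (B.proj j)) (𝟙 S) :=
      IsPullback.of_horiz_isIso ⟨M.sq.isoPullback_hom_snd.trans (Category.comp_id f).symm⟩
    have h2 := h1.paste_horiz (isPullback_cone A M.p i)
    exact (Category.id_comp (A.c.π.app i)) ▸ h2
  · exact isLocallyNoetherian_of_lft (B.lft _)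
  · exact at_of_hom A M.p (IsCofiltered.minToLeft i₁ i₂) hi₁
  · exact at_of_hom A M.p (IsCofiltered.minToRight i₁ i₂) hi₂

theorem isUnivOpenAt {X Y : Scheme.{u}} (f : X ⟶ Y) [UniversallyOpen f] (x : X) : EGA43.IsUnivOpenAt f x :=
  fun _ g _ _ _ hU => (pullback.snd f g).isOpenMap.image_mem_nhds hU

theorem gr_descend {k K : Type u} [Field k] [Field K] (φ : k →+* K) {X Y : Scheme.{u}}
    (f : X ⟶ Spec (CommRingCat.of k)) (b : Y ⟶ Spec (CommRingCat.of K)) (a : Y ⟶ X)
    (h : IsPullback a b f (Spec.map (CommRingCat.ofHom φ))) [GeometricallyReduced b] :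
    GeometricallyReduced f := by
  letI := φ.toAlgebra
  haveI : GeometricallyReduced (pullback.snd f (Spec.map (CommRingCat.ofHom (algebraMap k K)))) := by
    show GeometricallyReduced (pullback.snd f (Spec.map (CommRingCat.ofHom φ)))
    rw [← h.isoPullback_inv_snd]
    exact (MorphismProperty.cancel_left_of_respectsIso (P := @GeometricallyReduced) _ _).mpr ‹_›
  exact SweepSix.GeomConn.gr_of_bc f K

/-- Geometric reducedness of a fibre descends along a base change. -/
theorem gr_fiber_of_isPullback {X S X₀ S₀ : Scheme.{u}} {f : X ⟶ S} {f₀ : X₀ ⟶ S₀} {g' : X ⟶ X₀} {g : S ⟶ S₀}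
    (h : IsPullback g' f f₀ g) (s : S) [GeometricallyReduced (f.fiberToSpecResidueField s)] :
    GeometricallyReduced (f₀.fiberToSpecResidueField (g s)) := by
  have h1 : IsPullback (pullback.fst f (S.fromSpecResidueField s) ≫ g') (f.fiberToSpecResidueField s) f₀
      (S.fromSpecResidueField s ≫ g) :=
    (IsPullback.of_hasPullback f (S.fromSpecResidueField s)).paste_horiz h
  rw [← g.SpecMap_residueFieldMap_fromSpecResidueField] at h1
  let a : f.fiber s ⟶ f₀.fiber (g s) := pullback.lift (pullback.fst f (S.fromSpecResidueField s) ≫ g')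
    (f.fiberToSpecResidueField s ≫ Spec.map (g.residueFieldMap s)) (by rw [Category.assoc]; exact h1.w)
  have h2 : IsPullback a (f.fiberToSpecResidueField s) (f₀.fiberToSpecResidueField (g s))
      (Spec.map (g.residueFieldMap s)) := by
    refine IsPullback.of_right (h₁₂ := pullback.fst f₀ (S₀.fromSpecResidueField (g s))) ?_
      (pullback.lift_snd _ _ _) (IsPullback.of_hasPullback _ _)
    rw [pullback.lift_fst]
    exact h1
  exact gr_descend (k := S₀.residueField (g s)) (K := S.residueField s) (g.residueFieldMap s).hom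
    (f₀.fiberToSpecResidueField (g s)) (f.fiberToSpecResidueField s) a h2

/-- Locally on the base, a proper flat morphism of finite presentation has a Noetherian model. -/
theorem exists_local_model {X S : Scheme.{u}} (f : X ⟶ S) [IsProper f] [Flat f]
    [LocallyOfFinitePresentation f] (s : S) :
    ∃ (U : S.Opens) (_ : s ∈ U) (X₀ S₀ : Scheme.{u}) (f₀ : X₀ ⟶ S₀)
      (g' : (f ⁻¹ᵁ U : Scheme.{u}) ⟶ X₀) (g : (U : Scheme.{u}) ⟶ S₀),
      IsPullback g' (f ∣_ U) f₀ g ∧ IsLocallyNoetherian S₀ ∧ IsProper f₀ ∧ Flat f₀ ∧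
      LocallyOfFinitePresentation f₀ ∧
      ∀ z : U, MoreMor.nGeomConnComp f (U.ι z) = MoreMor.nGeomConnComp f₀ (g z) := by
  obtain ⟨_, ⟨U, hU, rfl⟩, hsU, -⟩ :=
    S.isBasis_affineOpens.exists_subset_of_mem_open (Set.mem_univ s) isOpen_univ
  replace hU : IsAffineOpen U := hU
  change s ∈ U at hsU
  haveI : IsAffine U := hU
  have hsq : IsPullback (f ⁻¹ᵁ U).ι (f ∣_ U) f (Scheme.Opens.ι U) := (isPullback_morphismRestrict f U).flip
  haveI : IsProper (f ∣_ U) := MorphismProperty.of_isPullback hsq inferInstance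
  haveI : Flat (f ∣_ U) := MorphismProperty.of_isPullback hsq inferInstance
  haveI : LocallyOfFinitePresentation (f ∣_ U) := MorphismProperty.of_isPullback hsq inferInstance
  obtain ⟨X₀, S₀, f₀, g', g, hpb, h1, h2, h3, h4⟩ := exists_model (f ∣_ U)
  refine ⟨U, hsU, X₀, S₀, f₀, g', g, hpb, h1, h2, h3, h4, fun z => ?_⟩
  rw [← Groth.Agent.S1335.result f (f ∣_ U) _ (Scheme.Opens.ι U) hsq z, ← Groth.Agent.S1335.result f₀ (f ∣_ U) g' g hpb z]

end

end ProperFlatModelLib
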